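import Cfsg.Agent.ReeLocal.Model
import Cfsg.Agent.KSG.TwAutG2

/-!
# Seven-dimensional matrices of some elements of `²G₂`
-/

set_option autoImplicit false
set_option linter.unusedSectionVars false
set_option linter.style.haveILetI false
set_option linter.unusedSimpArgs false

namespace Cfsg.Agent.ReeCover

open Cfsg.Lie Cfsg.Agent.ChevTw Cfsg.Agent.ChevGrp Cfsg.Agent.ReeG2
open Cfsg.Agent.KSG.TwAutG2 (X H)

variable {R : Type*} [CommRing R]

/-- An entry of `x_r(t)` on the seven coordinates. -/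
def ent (r : ℕ) (t : R) (i j : Fin 7) : R :=
  ((colTerms chevG2 r (inCoord j : ℕ)).map fun q =>
    if (inCoord i : ℕ) = q.1 then (q.2.2 : R) * t ^ q.2.1 else 0).sum

/-- `x_r(t)` on the seven coordinates. -/
def mR (r : ℕ) (t : R) : Matrix (Fin 7) (Fin 7) R := Matrix.of (ent r t)

theorem mR_map {S : Type*} [CommRing S] (φ : R →+* S) (r : ℕ) (t : R) :
    (mR r t).map φ = mR r (φ t) := by
  ext i j
  simp only [mR, Matrix.map_apply, Matrix.of_apply, ent, map_list_sum, List.map_map]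
  congr 2
  funext q
  simp only [Function.comp_apply]
  split_ifs <;> simp [map_intCast]

/-- The matrix of the Weyl element. -/
def mA (S : Type*) [CommRing S] : Matrix (Fin 7) (Fin 7) S :=
  !![-1, 0, 0, 0, 0, 0, 0; 0, 0, 0, 0, 0, 0, -1; 0, 0, 0, 0, 0, -1, 0; 0, 0, 0, 0, -1, 0, 0;
    0, 0, 0, -1, 0, 0, 0; 0, 0, -1, 0, 0, 0, 0; 0, -1, 0, 0, 0, 0, 0]

/-- The matrix of the central involution. -/
def mJ (S : Type*) [CommRing S] : Matrix (Fin 7) (Fin 7) S :=
  Matrix.diagonal ![1, -1, 1, -1, -1, 1, -1]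

theorem mA_word : mA (ZMod 3) = (mR 8 1 * mR 10 1) * (mR 3 (-1) * mR 1 (-1)) * (mR 8 1 * mR 10 1) := by
  decide +kernel

variable {K : Type*} [Field K] [CharP K 3]

theorem mA_map : mA K = (mA (ZMod 3)).map (ZMod.castHom dvd_rfl K) := by
  ext i j
  fin_cases i <;> fin_cases j <;> simp [mA]

variable (K) in
/-- The seven coordinates of a matrix of the group. -/
noncomputable def sv (g : GL chevG2.Idx K) : Matrix (Fin 7) (Fin 7) K :=
  (numMat chevG2 K g).submatrix inCoord inCoord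

theorem sevenMat_eq (g : ↥(chevG2.group K)) : sevenMat K g = sv K g.1 := by
  ext i j
  show subBlock isoG2 (numMat chevG2 K g.1) (inCoord i) (inCoord j) = _
  have hi : isoG2.inIdx (inCoord i) = true := (inCoord_iff _).2 ⟨i, rfl⟩
  have hj : isoG2.inIdx (inCoord j) = true := (inCoord_iff _).2 ⟨j, rfl⟩
  simp [subBlock, sv, hi, hj]

theorem sv_mul {g h : GL chevG2.Idx K} (hg : g ∈ chevG2.group K) (hh : h ∈ chevG2.group K) :
    sv K (g * h) = sv K g * sv K h := by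
  have := map_mul (sevenMat K) ⟨g, hg⟩ ⟨h, hh⟩
  simpa only [sevenMat_eq, Subgroup.coe_mul] using this

theorem X_mem (r : ℕ) (hr : r < chevG2.nroots) (t : K) : ReeG2.X K r t ∈ chevG2.group K := by
  refine Subgroup.subset_closure ⟨⟨r, hr⟩, t, ?_⟩
  rw [val_X, ChevalleyDatum.x, dif_pos hr]

theorem sv_X (r : ℕ) (hr : r < chevG2.nroots) (t : K) : sv K (ReeG2.X K r t) = mR r t := by
  ext i j
  show numMat chevG2 K (ReeG2.X K r t) (inCoord i) (inCoord j) = _
  rw [numMat_x isoG2_ok hr (val_X K r t), xTerms, evalT_cols, if_pos (inCoord j).isLt]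
  simp only [mR, Matrix.of_apply, ent, hit]

section

variable [Fintype K] {m : ℕ} (hK : Fintype.card K = 3 ^ (2 * m + 1))

include hK in
theorem RG_le : RG K m ≤ chevG2.group K := by
  rw [group_eq (ChevTw.rulesG2 K)]
  exact (grpG2 hK).Tw_le

/-- The Weyl element in the centraliser of the involution. -/
noncomputable def wA : ↥(RG K m) :=
  ⟨lHom K m (Cfsg.Agent.Chev.RankOne.upper 1) * lHom K m (lower K (-1)) *
      lHom K m (Cfsg.Agent.Chev.RankOne.upper 1),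
    mul_mem (mul_mem (lHom_upper_mem K hK 1) (lHom_lower_mem K hK (-1))) (lHom_upper_mem K hK 1)⟩

/-- The matrix of an element of the group. -/
noncomputable def rho (g : ↥(RG K m)) : Matrix (Fin 7) (Fin 7) K := sv K g.1

include hK in
theorem rho_mul (g h : ↥(RG K m)) : rho (g * h) = rho g * rho h :=
  sv_mul (RG_le hK g.2) (RG_le hK h.2)

theorem rep_eq (hm : 1 ≤ m) (g : ↥(RG K m)) :
    ((ReeLocal.reeSys K hK hm).rep g : Matrix (Fin 7) (Fin 7) K) = rho g :=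
  sevenMat_eq _

include hK in
theorem rho_wA : rho (wA hK) = mA K := by
  have h8 := X_mem (K := K) 8 (by decide)
  have h10 := X_mem (K := K) 10 (by decide)
  have h3 := X_mem (K := K) 3 (by decide)
  have h1 := X_mem (K := K) 1 (by decide)
  have he : ((-1 : K)) ^ 3 ^ m = -1 := (Odd.pow (by decide : Odd 3)).neg_one_pow
  show sv K _ = _
  simp only [wA, lHom_upper, lHom_lower, one_pow, he]
  rw [sv_mul (mul_mem (mul_mem (h8 1) (h10 1)) (mul_mem (h3 _) (h1 _))) (mul_mem (h8 1) (h10 1)),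
    sv_mul (mul_mem (h8 1) (h10 1)) (mul_mem (h3 _) (h1 _)),
    sv_mul (h8 1) (h10 1), sv_mul (h3 _) (h1 _), sv_X 8 (by decide), sv_X 10 (by decide),
    sv_X 3 (by decide), sv_X 1 (by decide), mA_map, mA_word]
  simp only [Matrix.map_mul, mR_map, map_neg, map_one]

include hK in
theorem rho_jT : rho (jT K hK) = mJ K := by
  have hc : ∀ x : Fin 2 → ℤ, ∀ s, (∏ j : Fin 2, mkG2 ((-1 : Kˣ) ^ 3 ^ m) (-1) j ^ chevG2.cartan j s : Kˣ) =
      (-1 : Kˣ) ^ (chevG2.cartan 0 s + chevG2.cartan 1 s) := by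
    intro x s
    rw [(Odd.pow (by decide : Odd 3)).neg_one_pow, Fin.prod_univ_two, zpow_add]
    rfl
  have ht : ((tor K m (-1) : GL chevG2.Idx K) : Matrix chevG2.Idx chevG2.Idx K) =
      Matrix.diagonal (Sum.elim (fun _ => (1 : K)) fun s : Fin chevG2.nroots =>
        (((-1 : Kˣ) ^ (chevG2.cartan 0 s + chevG2.cartan 1 s) : Kˣ) : K)) := by
    refine ((GS K).mat_tau (ChevTw.rulesG2 K) (hRG K) (glSys_HMul (ChevTw.rulesG2 K) (hRG K))
      (torParam K m (-1))).trans ?_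
    congr 1
    ext (a | s)
    · rfl
    · simp only [Sum.elim_inr]
      exact congrArg Units.val (hc 0 s)
  have hp : [2, 3, 4, 7, 8, 9].map (fun r => chevG2.cartan 0 r + chevG2.cartan 1 r) =
      [-1, 0, -1, 1, 0, 1] := by decide +kernel
  simp only [List.map_cons, List.map_nil, List.cons.injEq, and_true] at hp
  obtain ⟨a2, a3, a4, a7, a8, a9⟩ := hp
  ext i j
  show numMat chevG2 K (tor K m (-1)) (inCoord i) (inCoord j) = _
  show ((tor K m (-1) : GL chevG2.Idx K) : Matrix chevG2.Idx chevG2.Idx K)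
    ((idxEquiv chevG2).symm (inCoord i)) ((idxEquiv chevG2).symm (inCoord j)) = _
  rw [ht, mJ]
  by_cases hij : i = j
  · subst hij
    rw [Matrix.diagonal_apply_eq, Matrix.diagonal_apply_eq]
    have hsym : ∀ k : Fin 7, (idxEquiv chevG2).symm (inCoord k) =
        ![Sum.inl ⟨0, by decide⟩, Sum.inr ⟨2, by decide⟩, Sum.inr ⟨3, by decide⟩, Sum.inr ⟨4, by decide⟩,
          Sum.inr ⟨7, by decide⟩, Sum.inr ⟨8, by decide⟩, Sum.inr ⟨9, by decide⟩] k := by decide
    rw [hsym]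
    fin_cases i <;> simp [a2, a3, a4, a7, a8, a9]
  · rw [Matrix.diagonal_apply_ne _ hij, Matrix.diagonal_apply_ne]
    exact fun e => hij (inCoord_inj ((idxEquiv chevG2).symm.injective e))

theorem mR_nine (w : K) : mR 9 w = 1 + w • !![0, -1, 0, 0, 0, 0, 0; 0, 0, 0, 0, 0, 0, 0;
    0, 0, 0, 0, 0, 0, 0; 0, 0, 0, 0, 0, 0, 0; 0, 0, 1, 0, 0, 0, 0; 0, 0, 0, -1, 0, 0, 0;
    -1, -w, 0, 0, 0, 0, 0] := by
  have e : (List.range 14).map (colTerms chevG2 9) = [[(0, 0, 1), (11, 1, -1)], [(1, 0, 1), (11, 1, 0)],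
    [(2, 0, 1), (5, 1, 1), (9, 2, -1), (12, 3, 1)], [(3, 0, 1), (6, 1, 1), (10, 2, 1), (13, 3, -1)],
    [(4, 0, 1), (11, 2, -1), (0, 1, 2), (1, 1, 3)], [(5, 0, 1), (9, 1, -2), (12, 2, 3)],
    [(6, 0, 1), (10, 1, 2), (13, 2, -3)], [(7, 0, 1)], [(8, 0, 1)], [(9, 0, 1), (12, 1, -3)],
    [(10, 0, 1), (13, 1, -3)], [(11, 0, 1)], [(12, 0, 1)], [(13, 0, 1)]] := by decide +kernel
  simp [List.range_succ] at e
  have h3 : (3 : K) = 0 := by exact_mod_cast CharP.cast_eq_zero K 3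
  ext i j
  fin_cases i <;> fin_cases j <;> simp [mR, ent, inCoord, e] <;> first
    | ring1
    | linear_combination w * h3
    | linear_combination (-w) * h3

theorem mR_eleven (v : K) : mR 11 v = 1 + v • !![0, 0, 0, 0, 0, 0, 0; 0, 0, 0, 0, 0, 0, 0;
    0, 0, 0, 0, 0, 0, 0; 0, 0, 0, 0, 0, 0, 0; 0, 0, 0, 0, 0, 0, 0; 0, 1, 0, 0, 0, 0, 0;
    0, 0, -1, 0, 0, 0, 0] := by
  have e : (List.range 14).map (colTerms chevG2 11) = [[(0, 0, 1), (13, 1, 0)], [(1, 0, 1), (13, 1, -1)],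
    [(2, 0, 1), (13, 2, -1), (0, 1, 1), (1, 1, 2)], [(3, 0, 1), (8, 1, 1)], [(4, 0, 1), (10, 1, 1)],
    [(5, 0, 1), (11, 1, -1)], [(6, 0, 1)], [(7, 0, 1), (12, 1, -1)], [(8, 0, 1)], [(9, 0, 1)],
    [(10, 0, 1)], [(11, 0, 1)], [(12, 0, 1)], [(13, 0, 1)]] := by decide +kernel
  simp [List.range_succ] at e
  ext i j
  fin_cases i <;> fin_cases j <;> simp [mR, ent, inCoord, e]

/-- The matrix of a central unipotent element. -/
def mZ (w v : K) : Matrix (Fin 7) (Fin 7) K :=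
  !![1, -w, 0, 0, 0, 0, 0; 0, 1, 0, 0, 0, 0, 0; 0, 0, 1, 0, 0, 0, 0; 0, 0, 0, 1, 0, 0, 0;
    0, 0, w, 0, 1, 0, 0; 0, v, 0, -w, 0, 1, 0; -w, -(w * w), -v, 0, 0, 0, 1]

include hK in
theorem rho_X (v : K) : rho (X hK 0 0 v : ↥(RG K m)) = mZ (v ^ 3 ^ m) v := by
  show sv K (uEl K m 0 0 v) = _
  have h0 : ∀ r, r < chevG2.nroots → (glSys (ChevTw.rulesG2 K)).x r (0 : K) = 1 := fun r hr => Sys.x_zero _ hr
  have e : uEl K m 0 0 v = ReeG2.X K 9 (v ^ 3 ^ m) * ReeG2.X K 11 v := by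
    simp [uEl, reeEl, uSix, qPart, zero_pow (pow_ne_zero m three_ne_zero),
      zero_pow (show 2 * 3 ^ m + 1 ≠ 0 by omega), h0 6 (by decide), h0 7 (by decide), h0 8 (by decide),
      h0 10 (by decide)]
    rfl
  rw [e, sv_mul (X_mem 9 (by decide) _) (X_mem 11 (by decide) _), sv_X 9 (by decide), sv_X 11 (by decide),
    mR_nine, mR_eleven, mZ]
  ext i j
  fin_cases i <;> fin_cases j <;> simp [Matrix.mul_apply, Fin.sum_univ_succ, Matrix.one_apply] <;> ring1

end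

end Cfsg.Agent.ReeCover
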