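import Cfsg.Agent.ReeCover.Spectrum
import Cfsg.Agent.ReeCover.Mats
import Cfsg.Agent.ReeCover.Eigen
import Cfsg.Agent.ReeCover.Bound

/-!
# The family `W·Z` meets the classes of the large tori
-/

set_option autoImplicit false
set_option linter.unusedSectionVars false
set_option linter.style.haveILetI false
set_option linter.unusedSimpArgs false

namespace Cfsg.Agent.ReeCover

open Cfsg.Lie Cfsg.Agent.ChevTw Cfsg.Agent.ChevGrp Cfsg.Agent.ReeG2 Matrix
open Cfsg.Agent.KSG.TwAutG2 (X H)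

variable {K : Type*} [Field K] [Fintype K]

/-- A fixed point of the `q`-th power map lies in the field. -/
theorem mem_range_of_pow_card {M : Type*} [Field M] (φ : K →+* M) {y : M}
    (hy : y ^ Fintype.card K = y) : ∃ c : K, φ c = y := by
  classical
  by_contra hc
  push Not at hc
  have h1 : 1 < Fintype.card K := Fintype.one_lt_card
  set P : Polynomial M := Polynomial.X ^ Fintype.card K - Polynomial.X
  have hdeg : P.natDegree = Fintype.card K := FiniteField.X_pow_card_sub_X_natDegree_eq M h1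
  have hP : P ≠ 0 := fun h => by rw [h, Polynomial.natDegree_zero] at hdeg; omega
  have hsub : insert y (Finset.univ.image φ) ⊆ P.roots.toFinset := by
    intro z hz
    rw [Multiset.mem_toFinset, Polynomial.mem_roots hP]
    simp only [Polynomial.IsRoot.def, P, Polynomial.eval_sub, Polynomial.eval_pow, Polynomial.eval_X, sub_eq_zero]
    rcases Finset.mem_insert.1 hz with rfl | hz
    · exact hy
    · obtain ⟨c, -, rfl⟩ := Finset.mem_image.1 hz
      rw [← map_pow, FiniteField.pow_card]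
  have h2 := (Finset.card_le_card hsub).trans ((Multiset.toFinset_card_le _).trans (Polynomial.card_roots' P))
  rw [hdeg, Finset.card_insert_of_notMem (by simp [hc]), Finset.card_image_of_injective _ φ.injective,
    Finset.card_univ] at h2
  omega

/-- Every element is a square or the negative of one. -/
theorem exists_sq_or_neg (hq : Fintype.card K % 4 = 3) (s : K) : ∃ w : K, w * w = s ∨ -(w * w) = s := by
  have h2 : ringChar K ≠ 2 := fun h => by
    have := FiniteField.even_card_iff_char_two.1 h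
    omega
  by_cases hs : s = 0
  · exact ⟨0, Or.inl (by rw [hs, mul_zero])⟩
  rcases FiniteField.pow_dichotomy h2 hs with h | h
  · obtain ⟨w, hw⟩ := (FiniteField.isSquare_iff h2 hs).2 h
    exact ⟨w, Or.inl hw.symm⟩
  · have h' : (-s) ^ (Fintype.card K / 2) = 1 := by
      rw [Odd.neg_pow (Nat.odd_iff.2 (by omega)), h, neg_neg]
    obtain ⟨w, hw⟩ := (FiniteField.isSquare_iff h2 (neg_ne_zero.2 hs)).2 h'
    exact ⟨w, Or.inr (by rw [← hw, neg_neg])⟩

set_option maxHeartbeats 1000000 in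
theorem famP_eq {M : Type*} [Field M] (φ : K →+* M) (w v : K) :
    (mA K * mZ w v).map φ = famP (φ w) (φ v) := by
  ext i j
  fin_cases i <;> fin_cases j <;> simp [Matrix.mul_apply, Fin.sum_univ_succ, mA, mZ, famP]

set_option maxHeartbeats 1000000 in
theorem famM_eq {M : Type*} [Field M] (φ : K →+* M) (w v : K) :
    (mJ K * mA K * mZ w v).map φ = famM (φ w) (φ v) := by
  ext i j
  fin_cases i <;> fin_cases j <;> simp [Matrix.mul_apply, Fin.sum_univ_succ, mA, mJ, mZ, famM]

variable {m : ℕ} (hK : Fintype.card K = 3 ^ (2 * m + 1)) [CharP K 3]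

local notation "q" => Fintype.card K
local notation "L" => AlgebraicClosure K

/-- The two involutions of the family. -/
noncomputable def wSign (b : Bool) : ↥(RG K m) := if b then jT K hK * wA hK else wA hK

/-- A central unipotent element. -/
noncomputable def zC (v : K) : ↥(RG K m) := X hK 0 0 v

set_option maxHeartbeats 1000000 in
/-- An element of a large torus class is a product `W·z`. -/
theorem exists_family (hm : 1 ≤ m) {x : ↥(RG K m)}
    {A : Subgroup ↥(RG K m)} (hA : BigTor (ReeLocal.reeSys K hK hm) A) {g : ↥(RG K m)}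
    (hx : g * x * g⁻¹ ∈ A) (hx1 : x ≠ 1) :
    ∃ (b : Bool) (v : K), IsConj x (wSign hK b * zC hK v) := by
  classical
  set S := ReeLocal.reeSys K hK hm with hS
  have hnum := S.nums
  haveI : CharP L 3 := charP_of_injective_ringHom (algebraMap K L).injective 3
  haveI : Fact (Nat.Prime 3) := ⟨Nat.prime_three⟩
  obtain ⟨χ, hmul, heig, hinj, hspec⟩ := exists_char S hA
  set x' := g * x * g⁻¹ with hx'
  have hx'1 : x' ≠ 1 := fun e => hx1 (conj_eq_one_iff.1 e)
  set ζ := χ x' with hζ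
  have hζ1 : ζ ≠ 1 := fun e => hx'1 (hinj x' hx e)
  have hζc : ζ ^ Nat.card A = 1 := by
    obtain ⟨k, hk⟩ := A.orderOf_dvd_natCard hx
    rw [hk, pow_mul, (heig x' hx).pow_orderOf S, one_pow]
  have hζ0 : ζ ≠ 0 := by
    intro h0
    rw [h0, zero_pow Nat.card_pos.ne'] at hζc
    exact zero_ne_one hζc
  have hζ2 : ζ ^ 2 ≠ 1 := by
    intro h2
    obtain ⟨j, hj⟩ := hA.1.oddCard
    rw [hj, pow_succ, pow_mul, h2, one_pow, one_mul] at hζc
    exact hζ1 hζc
  have hQ : ζ ^ (q ^ 2 - q + 1) = 1 := by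
    obtain ⟨k, hk⟩ := hA.2.1
    rw [hk, pow_mul, hζc, one_pow]
  have hqq : q ≤ q ^ 2 := Nat.le_self_pow two_ne_zero _
  set B := ζ ^ q ^ 2 with hB
  have hB0 : B ≠ 0 := pow_ne_zero _ hζ0
  have hAB : ζ ^ q = ζ * B := by
    rw [hB, ← pow_succ', show q ^ 2 + 1 = q + (q ^ 2 - q + 1) by omega, pow_add, hQ, mul_one]
  have hBq : B ^ q = ζ⁻¹ := by
    refine eq_inv_of_mul_eq_one_left ?_
    rw [hB, ← pow_mul, ← pow_succ, show q ^ 2 * q + 1 = q ^ 3 + 1 by ring, S.cube_add, mul_comm, pow_mul, hQ, one_pow]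
  set σ := ζ + ζ⁻¹ + B + B⁻¹ + ζ * B + (ζ * B)⁻¹ with hσ
  -- the Frobenius maps
  let Φ : L →+* L := iterateFrobenius L 3 (m + 1)
  have hΦ : ∀ y, Φ y = y ^ 3 ^ (m + 1) := fun y => iterateFrobenius_def 3 (m + 1) y
  let Ψ : L →+* L := iterateFrobenius L 3 (2 * m + 1)
  have hΨ : ∀ y, Ψ y = y ^ q := fun y => by rw [hK]; exact iterateFrobenius_def 3 (2 * m + 1) y
  have hσq : σ ^ q = σ := by
    refine (hΨ σ).symm.trans ?_
    simp only [hσ, map_add, map_inv₀, map_mul]
    simp only [hΨ, hAB, hBq]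
    field_simp
    ring
  -- the long roots
  set P := ζ * ζ * B with hP
  have hPζ : ζ ^ (q + 1) = P := by rw [pow_succ, hAB, hP]; ring
  have hr : ζ ^ 3 ^ (m + 1) = P ∨ ζ ^ 3 ^ (m + 1) = P⁻¹ := by
    rcases hA.2.2.2.2.2 with hc | hc <;> rw [show S.m = m from rfl] at hc
    · left
      have hle : 3 ^ (m + 1) ≤ q := by rw [hK]; exact Nat.pow_le_pow_right (by norm_num) (by omega)
      rw [hc] at hζc
      rw [← hPζ, show q + 1 = 3 ^ (m + 1) + (q - 3 ^ (m + 1) + 1) by omega, pow_add ζ, hζc, mul_one]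
    · right
      refine eq_inv_of_mul_eq_one_left ?_
      rw [hc] at hζc
      rw [← hPζ, ← pow_add ζ, show 3 ^ (m + 1) + (q + 1) = q + 3 ^ (m + 1) + 1 by omega, hζc]
  have hBP : ∀ e : ℕ, e = q ^ 2 → P ^ e = B / ζ := by
    rintro e rfl
    have h4 : B ^ q ^ 2 = (ζ * B)⁻¹ := by
      rw [← hAB, pow_two, pow_mul, hBq, inv_pow]
    rw [hP, mul_pow, mul_pow, ← hB, h4]
    field_simp
  have hlg : Φ σ = ζ / B + B / ζ + ζ * ζ * B + (ζ * ζ * B)⁻¹ + ζ * B * B + (ζ * B * B)⁻¹ := by
    have e2 : B ^ 3 ^ (m + 1) = (ζ ^ 3 ^ (m + 1)) ^ q ^ 2 := by rw [hB, ← pow_mul, mul_comm, pow_mul]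
    simp only [hσ, map_add, map_inv₀, map_mul]
    simp only [hΦ]
    rcases hr with h | h
    · rw [e2, h, hBP _ rfl, hP]
      field_simp
      ring
    · rw [e2, h, inv_pow, hBP _ rfl, hP]
      field_simp
      ring
  have heq := famEq_torus (σ := σ) (lg := Φ σ) hζ0 hB0 hσ hlg
  -- the parameter
  obtain ⟨c, hc⟩ := mem_range_of_pow_card (algebraMap K L) hσq
  obtain ⟨w, hw⟩ := exists_sq_or_neg (K := K) (by omega) (c - 1)
  set v := w ^ 3 ^ (m + 1) with hv
  have hvw : v ^ 3 ^ m = w := by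
    rw [hv, ← pow_mul, ← pow_add, show m + 1 + m = 2 * m + 1 by omega, ← hK, FiniteField.pow_card]
  set W := algebraMap K L w
  set V := algebraMap K L v
  have hV : V = 0 → W = 0 := by
    intro h
    have h1 : v = 0 := (map_eq_zero _).1 h
    have h2 : w = 0 := pow_eq_zero_iff (pow_ne_zero _ (by norm_num)) |>.1 (hv ▸ h1)
    simp [W, h2]
  have hVW : V = Φ W := by
    rw [hΦ]; simp only [V, W, hv, map_pow]
  have hS1 : σ - 1 = algebraMap K L (c - 1) := by rw [map_sub, map_one, hc]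
  have hS2 : Φ σ - 1 = Φ (σ - 1) := by rw [map_sub, map_one]
  obtain ⟨b, hM⟩ : ∃ b : Bool, ∃ u : Fin 7 → L, u ≠ 0 ∧
      (repL S (wSign hK b * zC hK v)).mulVec u = ζ • u := by
    have hrep : ∀ y : ↥(RG K m), repL S y = (rho y).map (algebraMap K L) := fun y => by
      rw [← rep_eq hK hm y]; rfl
    rcases hw with hw | hw
    · refine ⟨false, ?_⟩
      have hW : σ - 1 = W * W := by rw [hS1, ← hw, map_mul]
      have e : repL S (wSign hK false * zC hK v) = famP W V := by
        rw [hrep, show wSign hK false = wA hK from rfl, rho_mul hK, rho_wA hK, show rho (zC hK v) = _ from rho_X hK v, hvw]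
        exact famP_eq _ w v
      rw [e]
      refine exists_eigvec_pos hζ0 hζ2 hV ?_
      rwa [hS2, hW, map_mul, ← hVW] at heq
    · refine ⟨true, ?_⟩
      have hW : σ - 1 = -(W * W) := by rw [hS1, ← hw, map_neg, map_mul]
      have e : repL S (wSign hK true * zC hK v) = famM W V := by
        rw [hrep, show wSign hK true = jT K hK * wA hK from rfl, rho_mul hK, rho_mul hK, rho_jT hK,
          rho_wA hK, show rho (zC hK v) = _ from rho_X hK v, hvw]
        exact famM_eq _ w v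
      rw [e]
      refine exists_eigvec_neg hζ0 hζ2 hV ?_
      rwa [hS2, hW, map_neg, map_mul, ← hVW] at heq
  refine ⟨b, v, ?_⟩
  set y := wSign hK b * zC hK v
  have hy : IsEig S y ζ := hM
  -- the class
  have hpow : ∀ a ∈ A, ∀ k : ℕ, χ (a ^ (k + 1)) = χ a ^ (k + 1) := by
    intro a ha k
    induction k with
    | zero => rw [zero_add, pow_one, pow_one]
    | succ k ih => rw [pow_succ a (k + 1), pow_succ (χ a) (k + 1), hmul _ (pow_mem ha _) _ ha, ih]
  have hd : orderOf x' ∣ orderOf y := by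
    refine orderOf_dvd_of_pow_eq_one (hinj _ (pow_mem hx _) ?_)
    obtain ⟨k, hk⟩ : ∃ k, orderOf y = k + 1 := ⟨orderOf y - 1, by have := orderOf_pos y; omega⟩
    rw [hk, hpow _ hx, ← hk]
    exact hy.pow_orderOf S
  obtain ⟨p, hp, hpx⟩ := Nat.exists_prime_and_dvd (ReeLocal.orderOf_ne_one hx'1)
  obtain ⟨g', hg'⟩ := hA.conj_mem hp (hpx.trans hd) (hpx.trans (A.orderOf_dvd_natCard hx))
  set y' := g' * y * g'⁻¹
  rcases hspec y' hg' ζ (hy.conj S g') with h | ⟨e, -, he⟩
  · exact absurd h hζ1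
  obtain ⟨k, hk⟩ : ∃ k, q ^ e = k + 1 := ⟨q ^ e - 1, by
    have : 0 < q ^ e := pow_pos Fintype.card_pos e
    omega⟩
  rw [hk, ← hpow _ hg', ← hk] at he
  have hxy : x' = y' ^ q ^ e := by
    have h1 : χ (x' * (y' ^ q ^ e)⁻¹) = 1 := by
      have h2 := hmul (x' * (y' ^ q ^ e)⁻¹) (mul_mem hx (inv_mem (pow_mem hg' _))) _ (pow_mem hg' (q ^ e))
      rw [inv_mul_cancel_right, ← hζ, ← he] at h2
      exact mul_right_cancel₀ hζ0 (h2.symm.trans (one_mul ζ).symm)
    exact mul_inv_eq_one.1 (hinj _ (mul_mem hx (inv_mem (pow_mem hg' _))) h1)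
  obtain ⟨n, hn⟩ := exists_conj_frob S hA e y' hg'
  refine (isConj_iff.2 ⟨g, rfl⟩ : IsConj x x').trans (IsConj.symm ?_)
  rw [hxy, ← hn]
  exact (isConj_iff.2 ⟨g', rfl⟩ : IsConj y y').trans (isConj_iff.2 ⟨n, rfl⟩)

end Cfsg.Agent.ReeCover
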