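import Cfsg.Agent.ReeCover.Witness
import Cfsg.Agent.ReeG2.MinDegree

/-!
# Unipotent elements
-/

set_option autoImplicit false
set_option linter.unusedSectionVars false
set_option linter.style.haveILetI false

namespace Cfsg.Agent.ReeCover

open Cfsg.Lie Cfsg.Agent.ChevTw Cfsg.Agent.ChevGrp Cfsg.Agent.ReeG2
open Cfsg.Agent.KSG.TwAutG2 (X H X_mul X_inj X_zero X_cube H_conj chi chiU)
open Cfsg.Agent.ReeLocal (mem_cent orderOf_conj)

variable {K : Type*} [Field K] [Fintype K] {m : ℕ} (hK : Fintype.card K = 3 ^ (2 * m + 1)) [CharP K 3]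

local notation "q" => Fintype.card K

/-- A torus element. -/
noncomputable def tC (x : Kˣ) : ↥(RG K m) := H hK x

theorem tC_conj (x : Kˣ) (t u v : K) :
    tC hK x * uC hK t u v * (tC hK x)⁻¹ = uC hK ((chi m x : K) * t) ((chiU m x : K) * u) ((x : K) * v) :=
  H_conj hK x t u v

theorem tC_mul_uC (x : Kˣ) (t u v : K) :
    tC hK x * uC hK t u v = uC hK ((chi m x : K) * t) ((chiU m x : K) * u) ((x : K) * v) * tC hK x :=
  mul_inv_eq_iff_eq_mul.1 (tC_conj hK x t u v)

theorem uC_tC_inj {t u v t' u' v' : K} {x x' : Kˣ}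
    (e : uC hK t u v * tC hK x = uC hK t' u' v' * tC hK x') : t = t' ∧ u = u' ∧ v = v' ∧ x = x' := by
  have e' : uEl K m t u v * tor K m x = uEl K m t' u' v' * tor K m x' := congrArg Subtype.val e
  obtain ⟨h4, h5⟩ := (GS K).Bbar_decomp_unique (ChevTw.rulesG2 K) (hRG K) (uEl_mem_Ubar K hK t u v)
    (uEl_mem_Ubar K hK t' u' v') (tor_mem_diag K m x) (tor_mem_diag K m x') e'
  obtain ⟨a, b, c⟩ := uEl_inj K hK h4
  exact ⟨a, b, c, tor_injective K hK h5⟩

theorem mem_U_uC {g : ↥(RG K m)} (hm : 1 ≤ m) (h : g ∈ (ReeLocal.reeSys K hK hm).U) :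
    ∃ t u v, g = uC hK t u v := by
  obtain ⟨t, u, v, e⟩ := (mem_U_iff K hK (g : GL chevG2.Idx K)).1 h
  exact ⟨t, u, v, Subtype.ext e⟩

theorem uC_mem_U (hm : 1 ≤ m) (t u v : K) : uC hK t u v ∈ (ReeLocal.reeSys K hK hm).U :=
  uEl_mem K hK t u v

theorem cent_le_N (hm : 1 ≤ m) {g a : ↥(RG K m)} (ha : a ∈ (ReeLocal.reeSys K hK hm).U) (ha1 : a ≠ 1)
    (hc : g * a = a * g) : ∃ t u v x, g = uC hK t u v * tC hK x := by
  have h := (ReeLocal.reeSys K hK hm).U_ti g a ha ha1 (by rw [hc, mul_inv_cancel_right]; exact ha)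
  rw [show (ReeLocal.reeSys K hK hm).U = ReeLocal.U3 K m from rfl, ReeLocal.normalizer_U3 K hK,
    mem_RB K hK] at h
  obtain ⟨t, u, v, x, e⟩ := (mem_B_iff K hK _).1 h
  exact ⟨t, u, v, x, Subtype.ext e⟩

theorem theta_zero : (0 : K) ^ 3 ^ m = 0 := zero_pow (pow_ne_zero m three_ne_zero)

include hK in
theorem chiU_eq_one {x : Kˣ} (h : chiU m x = 1) : x = 1 ∨ x = -1 := by
  have hfix : tor K m x * uEl K m 0 1 0 = uEl K m 0 1 0 * tor K m x := by
    rw [← mul_inv_eq_iff_eq_mul, tor_conj_uEl K hK]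
    rw [show (x ^ (3 * ((3 ^ m : ℕ) : ℤ) - 1) : Kˣ) = 1 from h]
    simp
  by_contra hc
  push Not at hc
  refine one_ne_zero ((fix_cases K hK hfix).2 fun e => ?_)
  rcases mul_self_eq_one_iff.1 (show (x : K) * x = 1 by simpa using congrArg Units.val e) with h1 | h1
  · exact hc.1 (Units.ext h1)
  · exact hc.2 (Units.ext (by simpa using h1))

/-- The centraliser of an element of order nine. -/
theorem card_cent_nine_le (hm : 1 ≤ m) {t : K} (ht : t ≠ 0) (u v : K) :
    Nat.card (Subgroup.centralizer ({uC hK t u v} : Set ↥(RG K m))) ≤ 3 * q := by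
  classical
  set y := uC hK t u v
  have hy1 : y ≠ 1 := fun e => ht (X_inj hK (e.trans (uC_zero hK).symm)).1
  have hshape : ∀ g : Subgroup.centralizer ({y} : Set ↥(RG K m)), ∃ p : K × K, p.1 ^ 3 = p.1 ∧
      (g : ↥(RG K m)) = uC hK (p.1 * t)
        ((-((t ^ 3 ^ m) ^ 3 * (p.1 * t) ^ 2) + (t ^ 3 ^ m) ^ 3 * (p.1 * t) * t +
          (((p.1 * t) ^ 3 ^ m) ^ 3 * t ^ 2 + p.1 * t * u - ((p.1 * t) ^ 3 ^ m) ^ 3 * t * (p.1 * t))) / t) p.2 := by
    intro g
    have hc := mem_cent.1 g.2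
    obtain ⟨a, b, c, x, hg⟩ := cent_le_N hK hm (uC_mem_U hK hm t u v) hy1 hc
    rw [hg] at hc
    rw [mul_assoc, tC_mul_uC, ← mul_assoc, uC_mul, show y = uC hK t u v from rfl, ← mul_assoc (uC hK t u v), uC_mul] at hc
    obtain ⟨e1, e2, e3, -⟩ := uC_tC_inj hK hc
    have hx : x = 1 := by
      refine Cfsg.Agent.KSG.TwAutG2.chi_injective hK (Units.ext ?_)
      have h1 : (chi m x : K) * t = t := by linear_combination e1
      rw [show chi m (1 : Kˣ) = 1 from one_zpow _]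
      exact mul_right_cancel₀ ht (by rw [h1, Units.val_one, one_mul])
    subst hx
    simp only [show chi m (1 : Kˣ) = 1 from one_zpow _, show chiU m (1 : Kˣ) = 1 from one_zpow _,
      Units.val_one, one_mul] at e1 e2 e3
    set z := a / t with hz
    have ha : a = z * t := by rw [hz, div_mul_cancel₀ _ ht]
    have hzr : (z ^ 3 ^ m) ^ 3 = z := by
      have h1 : (a ^ 3 ^ m) ^ 3 * t = (t ^ 3 ^ m) ^ 3 * a := by linear_combination e2
      rw [ha, mul_pow, mul_pow] at h1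
      have h0 : (t ^ 3 ^ m) ^ 3 * t ≠ 0 := mul_ne_zero (pow_ne_zero _ (pow_ne_zero _ ht)) ht
      exact mul_right_cancel₀ h0 (by linear_combination h1)
    have hz3 : z ^ 3 = z := by
      have h1 : ((((z ^ 3 ^ m) ^ 3) ^ 3 ^ m) ^ 3) = z := by rw [hzr, hzr]
      rw [← pow_mul z (3 ^ m) 3, ← pow_mul, ← pow_mul,
        show 3 ^ m * 3 * (3 ^ m * 3) = 3 ^ (2 * m + 1) * 3 by ring, ← hK, pow_mul, FiniteField.pow_card] at h1
      exact h1
    refine ⟨(z, c), hz3, ?_⟩
    rw [hg, show tC hK (1 : Kˣ) = 1 from Subtype.ext (map_one _), mul_one]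
    rw [← ha]
    congr 1
    rw [eq_div_iff ht]
    linear_combination -e3
  choose f hf3 hf using hshape
  let F : Subgroup.centralizer ({y} : Set ↥(RG K m)) → {z : K // z ^ 3 = z} × K :=
    fun g => (⟨(f g).1, hf3 g⟩, (f g).2)
  have hF : Function.Injective F := by
    intro g g' e
    have e1 : f g = f g' := Prod.ext (congrArg (fun p => (p.1 : K)) e) (congrArg Prod.snd e :)
    exact Subtype.ext (by rw [hf g, hf g', e1])
  refine (Nat.card_le_card_of_injective F hF).trans ?_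
  rw [Nat.card_prod, Nat.card_eq_fintype_card (α := K)]
  refine Nat.mul_le_mul_right _ ?_
  have hP : (Polynomial.X ^ 3 - Polynomial.X : Polynomial K) ≠ 0 := by
    intro h
    have := congrArg (Polynomial.coeff · 3) h
    simp [Polynomial.coeff_X] at this
  rw [Nat.card_eq_fintype_card, Fintype.card_subtype]
  refine (Finset.card_le_card (t := (Polynomial.X ^ 3 - Polynomial.X : Polynomial K).roots.toFinset) ?_).trans
    ((Multiset.toFinset_card_le _).trans ((Polynomial.card_roots' _).trans ?_))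
  · intro a ha
    simp [Polynomial.mem_roots hP, (Finset.mem_filter.1 ha).2]
  · compute_degree

/-- Every element of `U'` outside the centre is conjugate to `X(0, ±1, 0)`. -/
theorem exists_conj_rep {u : K} (hu : u ≠ 0) (v : K) : ∃ k : ↥(RG K m), ∃ w : K, (w = 1 ∨ w = -1) ∧
    k * uC hK 0 u v * k⁻¹ = uC hK 0 w 0 := by
  obtain ⟨x, hx⟩ | ⟨x, hx⟩ := CentralExt.Ree.chiU_mem hK (Units.mk0 u hu)⁻¹
  all_goals
    set a := -(v / u) with ha
    have h1 : uC hK a 0 0 * uC hK 0 u v = uC hK 0 u 0 * uC hK a 0 0 := by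
      rw [uC_mul, uC_mul]
      congr 1
      · ring
      · simp
      · simp [ha]
        field_simp
    have h2 : ∀ x : Kˣ, (tC hK x * uC hK a 0 0) * uC hK 0 u v * (tC hK x * uC hK a 0 0)⁻¹ =
        uC hK 0 ((chiU m x : K) * u) 0 := by
      intro x
      rw [_root_.mul_inv_rev, mul_assoc (tC hK x), h1, ← mul_assoc (tC hK x)]
      rw [mul_assoc _ (uC hK a 0 0), mul_inv_cancel_left, tC_conj]
      simp
  · refine ⟨_, 1, Or.inl rfl, (h2 x).trans ?_⟩
    rw [show (chiU m x : Kˣ) = (Units.mk0 u hu)⁻¹ from hx]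
    simp [inv_mul_cancel₀ hu]
  · refine ⟨_, -1, Or.inr rfl, (h2 x).trans ?_⟩
    rw [show (chiU m x : Kˣ) = -(Units.mk0 u hu)⁻¹ from hx]
    simp [inv_mul_cancel₀ hu]

include hK in
/-- The centraliser of an element of order six. -/
theorem card_cent_six_le (hm : 1 ≤ m) {g : ↥(RG K m)} (hg : orderOf g = 6) :
    Nat.card (Subgroup.centralizer ({g} : Set ↥(RG K m))) ≤ 2 * q := by
  classical
  set S := ReeLocal.reeSys K hK hm
  have h2o : orderOf (g ^ 2) = 3 := by rw [orderOf_pow, hg]; rfl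
  have h3o : orderOf (g ^ 3) = 2 := by rw [orderOf_pow, hg]; rfl
  obtain ⟨a, ha⟩ := S.exists_conj_three (x := g ^ 2) (k := 1)
    (by rw [pow_one]; exact orderOf_dvd_iff_pow_eq_one.1 h2o.dvd)
  obtain ⟨t, u, v, hu⟩ := mem_U_uC hK hm ha
  have hcube : uC hK t u v ^ 3 = 1 := by
    rw [← hu, conj_pow, orderOf_dvd_iff_pow_eq_one.1 h2o.dvd, mul_one, mul_inv_cancel]
  have ht : t = 0 := by
    by_contra ht
    have h := (X_cube hK t u v).symm.trans (hcube.trans (uC_zero hK).symm)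
    have h' := (X_inj hK h).2.2
    simp [ht] at h'
  subst ht
  have h1 : uC hK 0 u v ≠ 1 := fun e => by
    rw [conj_eq_one_iff.1 (hu.trans e), orderOf_one] at h2o
    omega
  have hu0 : u ≠ 0 := by
    rintro rfl
    set w := a * g ^ 3 * a⁻¹
    have hc : w * uC hK 0 0 v = uC hK 0 0 v * w := by
      rw [← hu]; exact ReeLocal.conj_mem_cent (Commute.pow_pow_self g 3 2).eq
    obtain ⟨t', u', v', x, hw⟩ := cent_le_N hK hm (uC_mem_U hK hm 0 0 v) h1 hc
    rw [hw, mul_assoc, tC_mul_uC, ← mul_assoc, uC_mul, ← mul_assoc (uC hK 0 0 v), uC_mul] at hc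
    obtain ⟨-, -, e3, -⟩ := uC_tC_inj hK hc
    have hv : v ≠ 0 := fun e => h1 (by rw [e, uC_zero])
    simp at e3
    have hx : x = 1 := Units.ext (mul_right_cancel₀ hv (by
      rw [Units.val_one, one_mul]; linear_combination e3))
    rw [hx, show tC hK (1 : Kˣ) = 1 from Subtype.ext (map_one _), mul_one] at hw
    have h9 := S.orderOf_dvd_nine (uC_mem_U hK hm t' u' v')
    rw [← hw, orderOf_conj, h3o] at h9
    norm_num at h9
  obtain ⟨k, w, hw, hk⟩ := exists_conj_rep hK hu0 v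
  have hw0 : w ≠ 0 := by rcases hw with rfl | rfl <;> simp
  set g' := (k * a) * g * (k * a)⁻¹ with hg'
  have hg2 : g' ^ 2 = uC hK 0 w 0 := by
    rw [hg', conj_pow, show k * a * g ^ 2 * (k * a)⁻¹ = k * (a * g ^ 2 * a⁻¹) * k⁻¹ by group, hu, hk]
  have hne : uC hK 0 w 0 ≠ 1 := fun e => hw0 (X_inj hK (e.trans (uC_zero hK).symm)).2.1
  have hshape : ∀ c : ↥(RG K m), c * uC hK 0 w 0 = uC hK 0 w 0 * c →
      ∃ b d x, (x = 1 ∨ x = (-1 : Kˣ)) ∧ c = uC hK 0 b d * tC hK x := by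
    intro c hc
    obtain ⟨t', b, d, x, hc'⟩ := cent_le_N hK hm (uC_mem_U hK hm 0 w 0) hne hc
    rw [hc', mul_assoc, tC_mul_uC, ← mul_assoc, uC_mul, ← mul_assoc (uC hK 0 w 0), uC_mul] at hc
    obtain ⟨-, e2, e3, -⟩ := uC_tC_inj hK hc
    simp at e2 e3
    have hx : chiU m x = 1 := Units.ext (mul_right_cancel₀ hw0 (by
      rw [Units.val_one, one_mul]; linear_combination e2))
    have ht' : t' = 0 := by
      refine (mul_eq_zero.1 (show t' * w = 0 from ?_)).resolve_right hw0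
      linear_combination e3
    exact ⟨b, d, x, chiU_eq_one hK hx, by rw [hc', ht']⟩
  obtain ⟨b₀, d₀, x₀, hx₀, hJ⟩ := hshape (g' ^ 3) (by rw [← hg2]; exact (Commute.pow_pow_self g' 3 2).eq)
  have hx₀' : x₀ = -1 := by
    refine hx₀.resolve_left fun e => ?_
    rw [e, show tC hK (1 : Kˣ) = 1 from Subtype.ext (map_one _), mul_one] at hJ
    have h9 := S.orderOf_dvd_nine (uC_mem_U hK hm 0 b₀ d₀)
    rw [← hJ, hg', conj_pow, orderOf_conj, h3o] at h9
    norm_num at h9
  subst hx₀'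
  have hshape' : ∀ c : Subgroup.centralizer ({g'} : Set ↥(RG K m)), ∃ p : Bool × K,
      (c : ↥(RG K m)) = uC hK 0 p.2 (if p.1 then d₀ else 0) * tC hK (if p.1 then -1 else 1) := by
    intro c
    have hc : Commute (c : ↥(RG K m)) g' := mem_cent.1 c.2
    obtain ⟨b, d, x, hx, hce⟩ := hshape c (by rw [← hg2]; exact (hc.pow_right 2).eq)
    have h3 := (hc.pow_right 3).eq
    rw [hce, hJ, mul_assoc (uC hK 0 b d), ← mul_assoc (tC hK x), tC_mul_uC, mul_assoc (uC hK 0 b₀ d₀),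
      ← mul_assoc (tC hK (-1 : Kˣ)), tC_mul_uC] at h3
    simp only [← mul_assoc, uC_mul] at h3
    rw [mul_assoc _ (tC hK x), mul_assoc _ (tC hK (-1 : Kˣ)),
      show tC hK x * tC hK (-1 : Kˣ) = tC hK (x * (-1)) from Subtype.ext (map_mul _ _ _).symm,
      show tC hK (-1 : Kˣ) * tC hK x = tC hK ((-1) * x) from Subtype.ext (map_mul _ _ _).symm] at h3
    obtain ⟨-, -, e3, -⟩ := uC_tC_inj hK h3
    simp at e3
    have h2 : (2 : K) ≠ 0 := ReeLocal.two_ne
    rcases hx with rfl | rfl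
    · refine ⟨(false, b), ?_⟩
      simp at e3
      have hd : d = 0 := (mul_eq_zero.1 (show (2 : K) * d = 0 by linear_combination e3)).resolve_left h2
      simp [hce, hd]
    · refine ⟨(true, b), ?_⟩
      simp at e3
      have hd : d = d₀ := sub_eq_zero.1
        ((mul_eq_zero.1 (show (2 : K) * (d - d₀) = 0 by linear_combination e3)).resolve_left h2)
      simp [hce, hd]
  choose f hf using hshape'
  have hinj : Function.Injective f := fun c c' e => Subtype.ext (by rw [hf c, hf c', e])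
  refine le_of_eq_of_le ?_ ((Nat.card_le_card_of_injective f hinj).trans ?_)
  · rw [hg', ReeLocal.cent_conj, Subgroup.card_map_of_injective (MulAut.conj _).injective]
  · rw [Nat.card_prod, Nat.card_eq_fintype_card (α := K)]
    simp

end Cfsg.Agent.ReeCover
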