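import Cfsg.Agent.Char.Linear
import Cfsg.Agent.ReeCover.General
import Cfsg.Agent.ReeCover.Unip

/-!
# Every non-identity element is a product of two conjugates
-/

set_option autoImplicit false
set_option linter.unusedSectionVars false
set_option linter.style.haveILetI false

namespace Cfsg.Agent.ReeCover

open Cfsg.Lie Cfsg.Agent.ChevTw Cfsg.Agent.ChevGrp Cfsg.Agent.ReeG2
open Cfsg.Agent.KSG.TwAutG2 (X H X_mul X_inj X_zero X_cube H_conj chi chiU)
open Cfsg.Agent.ReeLocal (mem_cent orderOf_conj)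

variable {K : Type*} [Field K] [Fintype K] {m : ℕ} (hK : Fintype.card K = 3 ^ (2 * m + 1)) [CharP K 3]

local notation "q" => Fintype.card K

include hK in
theorem minDeg (hm : 1 ≤ m) : MinDeg ↥(RG K m) (q ^ 2 - q + 1) := by
  intro χ hχ
  set S := ReeLocal.reeSys K hK hm
  obtain ⟨n, ρ, hρ, e⟩ := χ.2
  have hn : (χ : ↥(RG K m) → ℂ) 1 = n := by
    rw [← e, Representation.char_one, Module.finrank_fin_fun]
  refine ⟨n, ?_, hn⟩
  by_cases h2 : 2 ≤ n
  · let ρ' : Representation ℂ ↥(grpG2 hK).Tw (Fin n → ℂ) := ρ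
    have : ρ'.IsIrreducible := hρ
    have h := Cfsg.Agent.ReeMinDegree.two_le_and_mul hK hm (V := Fin n → ℂ) ρ'
      (by rw [Module.finrank_fin_fun]; exact h2)
    rwa [Module.finrank_fin_fun] at h
  · exfalso
    have hn0 : n ≠ 0 := by
      intro h0
      haveI := hρ
      subst h0
      exact bot_ne_top (α := Subrepresentation ρ) (Subrepresentation.toSubmodule_injective (Subsingleton.elim _ _))
    have hn1 : (χ : ↥(RG K m) → ℂ) 1 = 1 := by rw [hn, show n = 1 by omega, Nat.cast_one]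
    refine hχ (funext fun g => Cfsg.Agent.Char.linear_eq_one_of_mem_commutator (Cfsg.Agent.Char.isCharacter_of_irr χ.2) hn1 ?_)
    haveI := S.simple
    rcases (inferInstance : (commutator ↥(RG K m)).Normal).eq_bot_or_eq_top with h | h
    · exfalso
      refine S.n_not (Subgroup.mem_normalizer_iff.2 fun u => ?_)
      have hc : ∀ a b : ↥(RG K m), a * b = b * a := fun a b => by
        have := (Subgroup.commutator_eq_bot_iff_le_centralizer.1 h) (Subgroup.mem_top a)
        exact (Subgroup.mem_centralizer_iff.1 this b (Subgroup.mem_top b)).symm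
      rw [hc S.n u, mul_inv_cancel_right]
    · rw [h]; exact Subgroup.mem_top g

include hK in
theorem chi_one : chi m (1 : Kˣ) = 1 := one_zpow _

/-- A central unipotent element is conjugate to `X(0, 0, 1)`. -/
theorem isConj_zC {v : K} (hv : v ≠ 0) : IsConj (zC hK 1) (zC hK v) := by
  refine isConj_iff.2 ⟨tC hK (Units.mk0 v hv), ?_⟩
  rw [zC_eq, tC_conj, zC_eq]
  simp

/-- The centraliser of a central unipotent element. -/
theorem card_cent_zC (hm : 1 ≤ m) {v : K} (hv : v ≠ 0) :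
    Nat.card (Subgroup.centralizer ({zC hK v} : Set ↥(RG K m))) ≤ q ^ 3 := by
  rw [← (ReeLocal.reeSys K hK hm).U_card]
  refine Subgroup.card_le_of_le fun g hg => ?_
  have hc := mem_cent.1 hg
  have hne : zC hK v ≠ 1 := fun e => hv (X_inj hK (e.trans (uC_zero hK).symm)).2.2
  obtain ⟨t, u, w, x, hg'⟩ := cent_le_N hK hm (uC_mem_U hK hm 0 0 v) hne hc
  rw [hg', zC_eq, mul_assoc, tC_mul_uC, ← mul_assoc, uC_mul, ← mul_assoc (uC hK 0 0 v), uC_mul] at hc
  obtain ⟨-, -, e3, -⟩ := uC_tC_inj hK hc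
  simp at e3
  have hx : x = 1 := Units.ext (mul_right_cancel₀ hv (by
    rw [Units.val_one, one_mul]; linear_combination e3))
  rw [hg', hx, show tC hK (1 : Kˣ) = 1 from Subtype.ext (map_one _), mul_one]
  exact uC_mem_U hK hm t u w

/-- The group `U'`. -/
noncomputable def uHom' : Multiplicative (K × K) →* ↥(RG K m) where
  toFun p := uC hK 0 p.toAdd.1 p.toAdd.2
  map_one' := uC_zero hK
  map_mul' p p' := by
    rw [uC_mul]
    congr 1 <;> simp

/-- Its centre. -/
noncomputable def zHom' : Multiplicative K →* ↥(RG K m) :=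
  (uHom' hK).comp (AddMonoidHom.inr K K).toMultiplicative

theorem uHom'_apply (u v : K) : uHom' (m := m) hK (Multiplicative.ofAdd (u, v)) = uC hK 0 u v := rfl

theorem uHom'_injective : Function.Injective (uHom' (m := m) hK) := by
  intro p p' e
  obtain ⟨-, h1, h2⟩ := X_inj hK (e : uC hK 0 _ _ = uC hK 0 _ _)
  exact Multiplicative.toAdd.injective (Prod.ext h1 h2)

theorem zHom'_apply (v : K) : zHom' (m := m) hK (Multiplicative.ofAdd v) = zC hK v := rfl

theorem zHom'_injective : Function.Injective (zHom' (m := m) hK) := by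
  intro p p' e
  have h := uHom'_injective hK e
  exact Multiplicative.toAdd.injective (congrArg (fun s => s.toAdd.2) h :)

include hK in
theorem card_range_zHom' : Nat.card (zHom' (m := m) hK).range = q := by
  rw [← Nat.card_congr (MonoidHom.ofInjective (zHom'_injective hK)).toEquiv, Nat.card_eq_fintype_card,
    Fintype.card_multiplicative]

variable {x : ↥(RG K m)}

include hK in
/-- Central unipotent elements are obtained. -/
theorem isTwo_zC (hm : 1 ≤ m) (hx2 : 2 < orderOf x) (hx3 : ¬ 3 ∣ orderOf x) {v : K} (hv : v ≠ 0) :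
    IsTwo x (zC hK v) := by
  classical
  set S := ReeLocal.reeSys K hK hm with hS
  have hreal := isConj_inv S hx2 hx3
  suffices h : ∃ w : K, w ≠ 0 ∧ IsTwo x (zC hK w) by
    obtain ⟨w, hw, h⟩ := h
    obtain ⟨k, hk⟩ := isConj_iff.1 ((isConj_zC hK hw).symm.trans (isConj_zC hK hv))
    exact hk ▸ h.conj k
  have hrange : ∀ g ∈ (zHom' (m := m) hK).range, g ≠ 1 → ∃ w : K, w ≠ 0 ∧ g = zC hK w := by
    rintro g ⟨p, rfl⟩ hg
    refine ⟨p.toAdd, fun e => hg ?_, rfl⟩
    rw [show p = 1 from Multiplicative.toAdd.injective e, map_one]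
  have hnum := S.nums
  obtain ⟨p, hp, hp2, hp3, hpx⟩ := exists_big_prime S hx2 hx3
  rcases cases_big_prime S hp hp2 hp3 hpx with ⟨-, hc, -⟩ | ⟨hq4, hc, -⟩ | ⟨A, g, hA, hg, -⟩
  · obtain ⟨g, hg, hg1, h⟩ := exists_isTwo_of_card_lt hreal (zHom' hK).range
      (by rw [card_range_zHom' hK]; omega)
    obtain ⟨w, hw, rfl⟩ := hrange g hg hg1
    exact ⟨w, hw, h⟩
  · have hx1 : x ≠ 1 := fun e => by rw [e, orderOf_one] at hx2; omega
    obtain ⟨g, hg, hg1, h⟩ := exists_isTwo_of_steinberg (two_transitive S) hreal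
      (fixedBy_quarter S hp hp2 hp3 hq4 hpx) (zHom' hK).range (fun g hg hg1 => by
        obtain ⟨w, hw, rfl⟩ := hrange g hg hg1
        have hU : zC hK w ∈ S.U := uC_mem_U hK hm 0 0 w
        refine ⟨fixedBy_U S hU hg1, fun hconj => hx3 ?_⟩
        obtain ⟨k, hk⟩ := isConj_iff.1 hconj
        rw [← orderOf_conj k x, hk]
        rcases (Nat.dvd_prime_pow Nat.prime_three (m := 2)).1 (S.orderOf_dvd_nine hU) with ⟨i, -, hi⟩
        rw [hi]
        rcases i with - | i
        · exact absurd (orderOf_eq_one_iff.1 (hi.trans (pow_zero 3))) hg1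
        · exact dvd_pow_self 3 i.succ_ne_zero) hx1
      (by rw [← Subgroup.index_eq_card, S.index_N, card_range_zHom' hK])
      (by rw [card_range_zHom' hK]; omega) (by rw [card_range_zHom' hK]; exact hc)
    obtain ⟨w, hw, rfl⟩ := hrange g hg hg1
    exact ⟨w, hw, h⟩
  · have hx1 : x ≠ 1 := fun e => by rw [e, orderOf_one] at hx2; omega
    obtain ⟨b, c, hy⟩ := exists_family hK hm hA hg hx1
    obtain ⟨τ, k, e⟩ := exists_cent_comm hK b c
    refine ⟨emb (2 : ZMod 3), fun h0 => ?_, IsTwo.of_conj k (e ▸ IsTwo.of_comm hreal hy τ)⟩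
    exact absurd ((map_eq_zero (emb (K := K))).1 h0) (by decide)

include hK in
/-- Involutions are obtained. -/
theorem isTwo_inv (hm : 1 ≤ m) (hx2 : 2 < orderOf x) (hx3 : ¬ 3 ∣ orderOf x) {g : ↥(RG K m)}
    (hg : g * g = 1) (hg1 : g ≠ 1) : IsTwo x g := by
  classical
  set S := ReeLocal.reeSys K hK hm with hS
  have hreal := isConj_inv S hx2 hx3
  obtain ⟨p, hp, hp2, hp3, hpx⟩ := exists_big_prime S hx2 hx3
  have low : ∀ v, v * v = 1 → v ≠ 1 → x * v = v * x → IsTwo x g := by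
    intro v hv hv1 hc
    obtain ⟨k, hk⟩ := conj_into_cent S hv hv1 hc
    have h := (isTwo_inv_of_cent S hk (by rwa [orderOf_conj]) (by rwa [orderOf_conj]) hg hg1).conj_left k⁻¹
    rwa [show k⁻¹ * (k * x * k⁻¹) * k⁻¹⁻¹ = x by group] at h
  rcases cases_big_prime S hp hp2 hp3 hpx with ⟨-, -, v, h1, h2, h3⟩ | ⟨-, -, v, h1, h2, h3⟩ | ⟨A, k, hA, hk, -⟩
  · exact low v h1 h2 h3
  · exact low v h1 h2 h3
  · have hx1 : x ≠ 1 := fun e => by rw [e, orderOf_one] at hx2; omega
    obtain ⟨b, c, hy⟩ := exists_family hK hm hA hk hx1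
    obtain ⟨τ, e⟩ := exists_inv_comm hK b c
    set s := (wSign hK b * zC hK c)⁻¹ * (τ⁻¹ * (wSign hK b * zC hK c) * τ)
    obtain ⟨a, ha⟩ := S.inv_conj (v := s) (by rw [← pow_two, ← e]; exact pow_orderOf_eq_one s)
      (fun h => by rw [h, orderOf_one] at e; omega)
    obtain ⟨a', ha'⟩ := S.inv_conj hg hg1
    have h : IsTwo x S.t := IsTwo.of_conj a (ha ▸ IsTwo.of_comm hreal hy τ)
    exact ha' ▸ h.conj a'

include hK in
theorem card_cent_bounds (hm : 1 ≤ m) (hx2 : 2 < orderOf x) (hx3 : ¬ 3 ∣ orderOf x) :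
    ∃ c b : ℕ, Nat.card (Subgroup.centralizer ({x} : Set ↥(RG K m))) = c ∧ c = b + 1 ∧ 3 * b ≤ 4 * q := by
  set S := ReeLocal.reeSys K hK hm
  obtain ⟨p, hp, hp2, hp3, hpx⟩ := exists_big_prime S hx2 hx3
  have h := card_cent_le S hp hp2 hp3 hpx
  have h1 := r_bound S
  have h0 : 0 < Nat.card (Subgroup.centralizer ({x} : Set ↥(RG K m))) := Nat.card_pos
  obtain ⟨b, hb⟩ : ∃ b, Nat.card (Subgroup.centralizer ({x} : Set ↥(RG K m))) = b + 1 :=
    ⟨_, (Nat.succ_pred_eq_of_pos h0).symm⟩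
  refine ⟨_, b, rfl, hb, ?_⟩
  rw [hb] at h
  generalize 3 ^ (S.m + 1) = r at h h1
  generalize q = Q at h h1 ⊢
  omega

include hK in
/-- Elements with small centralisers are obtained. -/
theorem isTwo_of_cent_le (hm : 1 ≤ m) (hx2 : 2 < orderOf x) (hx3 : ¬ 3 ∣ orderOf x) {g : ↥(RG K m)}
    (hg : Nat.card (Subgroup.centralizer ({g} : Set ↥(RG K m))) ≤ 3 * q) : IsTwo x g := by
  obtain ⟨c, b, hc, rfl, hb⟩ := card_cent_bounds hK hm hx2 hx3
  have h27 := (ReeLocal.reeSys K hK hm).q_ge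
  refine isTwo_of_small (minDeg hK hm) (Nat.succ_pos _) hc.le hg ?_
  have hsq : q ≤ q ^ 2 := Nat.le_self_pow two_ne_zero _
  zify [hsq]
  have hb' : (3 : ℤ) * b ≤ 4 * q := by exact_mod_cast hb
  have h27' : (27 : ℤ) ≤ q := by exact_mod_cast h27
  have h1 : ((3 : ℤ) * b) ^ 2 * q ≤ (4 * q) ^ 2 * q := by gcongr
  nlinarith [mul_nonneg (mul_nonneg (sq_nonneg (q : ℤ)) (sub_nonneg.2 h27')) (by linarith : (0 : ℤ) ≤ q)]

/-- Elements of `U'` outside its centre are obtained. -/
theorem isTwo_uC (hm : 1 ≤ m) (hx2 : 2 < orderOf x) (hx3 : ¬ 3 ∣ orderOf x) {u : K} (hu : u ≠ 0) (v : K) :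
    IsTwo x (uC hK 0 u v) := by
  classical
  set S := ReeLocal.reeSys K hK hm with hS
  have hreal := isConj_inv S hx2 hx3
  obtain ⟨k, w, hw, hk⟩ := exists_conj_rep hK hu v
  refine IsTwo.of_conj k (hk ▸ ?_)
  by_contra hno
  have hinv : (uC hK (0 : K) 1 0)⁻¹ = uC (m := m) hK 0 (-1) 0 := by
    rw [inv_eq_iff_mul_eq_one, uC_mul, ← uC_zero hK]
    congr 1 <;> simp
  have hzero : ∀ u' v' : K, u' ≠ 0 → pairCount x (uC hK 0 u' v') = 0 := by
    intro u' v' hu'
    refine pairCount_eq_zero fun h => hno ?_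
    obtain ⟨k', w', hw', hk'⟩ := exists_conj_rep hK hu' v'
    have h' : IsTwo x (uC hK 0 w' 0) := hk' ▸ h.conj k'
    rcases hw with rfl | rfl <;> rcases hw' with rfl | rfl
    · exact h'
    · have := h'.inv hreal
      rwa [← hinv, inv_inv] at this
    · exact hinv ▸ h'.inv hreal
    · exact h'
  obtain ⟨c, b, hc, rfl, hb⟩ := card_cent_bounds hK hm hx2 hx3
  have h27 := S.q_ge
  set d := q ^ 2 - q + 1 with hd
  set N := Nat.card ↥(RG K m) with hN
  have hZ : ∀ v' : K, v' ≠ 0 → 5 * (d : ℝ) * pairCount x (zC hK v') ≤ N * (5 * d + b * (q : ℝ) ^ 2) := by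
    intro v' hv'
    have hn := (abs_le.1 (norm_pairCount_sub (minDeg hK hm) (Nat.succ_pos _) x (zC hK v'))).2
    have hM : Real.sqrt (Nat.card (Subgroup.centralizer ({zC hK v'} : Set ↥(RG K m)))) ≤ (q : ℝ) ^ 2 / 5 := by
      rw [Real.sqrt_le_iff]
      refine ⟨by positivity, ?_⟩
      have h3 : (Nat.card (Subgroup.centralizer ({zC hK v'} : Set ↥(RG K m))) : ℝ) ≤ (q : ℝ) ^ 3 := by
        exact_mod_cast card_cent_zC hK hm hv'
      have h27' : (27 : ℝ) ≤ q := by exact_mod_cast h27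
      refine h3.trans ?_
      nlinarith [pow_nonneg (by linarith : (0 : ℝ) ≤ q) 3]
    rw [hc, ← hd, ← hN, Nat.cast_succ, add_sub_cancel_right] at hn
    have hd0 : (0 : ℝ) < d := by exact_mod_cast Nat.succ_pos _
    have h5 := mul_le_mul_of_nonneg_left hn (by linarith : (0 : ℝ) ≤ 5 * d)
    have h6 : (b : ℝ) * Real.sqrt (Nat.card (Subgroup.centralizer ({zC hK v'} : Set ↥(RG K m)))) ≤
        b * ((q : ℝ) ^ 2 / 5) := mul_le_mul_of_nonneg_left hM (Nat.cast_nonneg b)
    have e : 5 * (d : ℝ) * (N * ((b : ℝ) * Real.sqrt (Nat.card (Subgroup.centralizer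
        ({zC hK v'} : Set ↥(RG K m)))) / d)) = 5 * N * ((b : ℝ) * Real.sqrt (Nat.card (Subgroup.centralizer
        ({zC hK v'} : Set ↥(RG K m))))) := by field_simp
    rw [e] at h5
    nlinarith [mul_le_mul_of_nonneg_left h6 (by positivity : (0 : ℝ) ≤ 5 * N)]
  letI := Fintype.ofFinite (uHom' (m := m) hK).range
  have hsum := card_mul_le_sum hreal (uHom' (m := m) hK).range
  have hcard : Nat.card (uHom' (m := m) hK).range = q ^ 2 := by
    rw [← Nat.card_congr (MonoidHom.ofInjective (uHom'_injective hK)).toEquiv, Nat.card_eq_fintype_card,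
      Fintype.card_multiplicative, Fintype.card_prod, pow_two]
  rw [hcard, ← Fintype.sum_equiv (MonoidHom.ofInjective (uHom'_injective hK)).toEquiv
    (fun p => pairCount x (uHom' hK p)) _ (fun p => rfl),
    ← Multiplicative.ofAdd.sum_comp, Fintype.sum_prod_type] at hsum
  simp only [uHom'_apply] at hsum
  rw [    ← Finset.add_sum_erase _ _ (Finset.mem_univ (0 : K)),
    Finset.sum_eq_zero (s := Finset.univ.erase (0 : K))
      (fun u' hu' => Finset.sum_eq_zero fun v' _ => hzero u' v' (Finset.ne_of_mem_erase hu')),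
    add_zero, ← Finset.add_sum_erase _ _ (Finset.mem_univ (0 : K))] at hsum
  rw [uC_zero hK, pairCount_one hreal, hc,
    ← hN] at hsum
  have hZs : 5 * (d : ℝ) * (∑ v' ∈ Finset.univ.erase (0 : K), (pairCount x (zC hK v') : ℝ)) ≤
      ((q : ℝ) - 1) * (N * (5 * d + b * (q : ℝ) ^ 2)) := by
    rw [Finset.mul_sum]
    refine (Finset.sum_le_card_nsmul _ _ _ fun v' hv' => hZ v' (Finset.ne_of_mem_erase hv')).trans_eq ?_
    rw [Finset.card_erase_of_mem (Finset.mem_univ _), Finset.card_univ, nsmul_eq_mul,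
      Nat.cast_sub (by omega), Nat.cast_one]
  have hsum' : (N : ℝ) * (q : ℝ) ^ 2 ≤ N * ((b : ℝ) + 1) +
      ∑ v' ∈ Finset.univ.erase (0 : K), (pairCount x (zC hK v') : ℝ) := by exact_mod_cast hsum
  have hd' : (d : ℝ) = (q : ℝ) ^ 2 - q + 1 := by
    rw [hd, Nat.cast_add, Nat.cast_sub (Nat.le_self_pow two_ne_zero _), Nat.cast_pow, Nat.cast_one]
  have hN0 : (0 : ℝ) < N := by exact_mod_cast Nat.card_pos
  have hq' : (27 : ℝ) ≤ q := by exact_mod_cast h27
  have hb' : 3 * (b : ℝ) ≤ 4 * q := by exact_mod_cast hb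
  have hd0 : (0 : ℝ) < 5 * d := by rw [hd']; nlinarith
  have hkey : ((q : ℝ) - 1) * (5 * d + b * (q : ℝ) ^ 2) + 5 * d * ((b : ℝ) + 1) < 5 * d * (q : ℝ) ^ 2 := by
    rw [hd']
    nlinarith [mul_le_mul_of_nonneg_left hb' (sq_nonneg (q : ℝ)),
      mul_le_mul_of_nonneg_left hb' (mul_nonneg (sq_nonneg (q : ℝ)) (by linarith : (0 : ℝ) ≤ q)),
      mul_le_mul_of_nonneg_left hq' (mul_nonneg (sq_nonneg (q : ℝ)) (by linarith : (0 : ℝ) ≤ q)),
      Nat.cast_nonneg (α := ℝ) b]
  nlinarith [mul_le_mul_of_nonneg_left hsum' hd0.le, mul_lt_mul_of_pos_left hkey hN0]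

include hK in
/-- Every non-identity element is a product of two conjugates of `x`. -/
theorem isTwo_all (hm : 1 ≤ m) (hx2 : 2 < orderOf x) (hx3 : ¬ 3 ∣ orderOf x) {g : ↥(RG K m)} (hg1 : g ≠ 1) :
    IsTwo x g := by
  classical
  set S := ReeLocal.reeSys K hK hm with hS
  have hnum := S.nums
  by_cases h2 : g * g = 1
  · exact isTwo_inv hK hm hx2 hx3 h2 hg1
  by_cases h3 : 3 ∣ orderOf g
  · rcases three_order S h3 with h | h | h
    · obtain ⟨k, hk⟩ := S.exists_conj_three (x := g) (k := 1) (by simpa [h] using pow_orderOf_eq_one g)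
      obtain ⟨t, u, v, hu⟩ := mem_U_uC hK hm hk
      refine IsTwo.of_conj k (hu ▸ ?_)
      have hcube : uC hK t u v ^ 3 = 1 := by
        rw [← hu, conj_pow, ← h, pow_orderOf_eq_one, mul_one, mul_inv_cancel]
      have ht : t = 0 := by
        by_contra ht
        have h' := (X_inj hK ((X_cube hK t u v).symm.trans (hcube.trans (uC_zero hK).symm))).2.2
        simp [ht] at h'
      subst ht
      by_cases hu0 : u = 0
      · subst hu0
        refine zC_eq hK v ▸ isTwo_zC hK hm hx2 hx3 fun e => hg1 (conj_eq_one_iff.1 (hu.trans ?_))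
        rw [e, uC_zero]
      · exact isTwo_uC hK hm hx2 hx3 hu0 v
    · refine isTwo_of_cent_le hK hm hx2 hx3 ((card_cent_six_le hK hm h).trans (by omega))
    · obtain ⟨k, hk⟩ := S.exists_conj_three (x := g) (k := 2)
        (by simpa [h] using pow_orderOf_eq_one g)
      obtain ⟨t, u, v, hu⟩ := mem_U_uC hK hm hk
      have ht : t ≠ 0 := by
        rintro rfl
        have hne : g ^ 3 ≠ 1 := fun e => by
          have := Nat.le_of_dvd (by norm_num) (orderOf_dvd_of_pow_eq_one e)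
          omega
        refine hne ((conj_eq_one_iff (a := k)).1 ?_)
        rw [← conj_pow, hu]
        refine (X_cube hK 0 u v).trans ((congrArg (X hK 0 0) ?_).trans (uC_zero hK))
        simp
      refine isTwo_of_cent_le hK hm hx2 hx3 ?_
      rw [← card_cent_conj k g, hu]
      exact card_cent_nine_le hK hm ht u v
  · have hg2 : 2 < orderOf g := by
      have := orderOf_pos g
      have h1 : orderOf g ≠ 1 := fun e => hg1 (orderOf_eq_one_iff.1 e)
      have h2' : orderOf g ≠ 2 := fun e => h2 (by rw [← pow_two, ← e, pow_orderOf_eq_one])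
      omega
    obtain ⟨p, hp, hp2, hp3, hpg⟩ := exists_big_prime S hg2 h3
    refine isTwo_of_cent_le hK hm hx2 hx3 ((card_cent_le S hp hp2 hp3 hpg).trans ?_)
    have := r_bound S
    omega

end Cfsg.Agent.ReeCover
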