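import Cfsg.Agent.ReeCover.Family

/-!
# Identities over the prime field
-/

set_option autoImplicit false
set_option linter.unusedSectionVars false
set_option linter.style.haveILetI false

namespace Cfsg.Agent.ReeCover

open Cfsg.Lie Cfsg.Agent.ChevTw Cfsg.Agent.ChevGrp Cfsg.Agent.ReeG2 Matrix
open Cfsg.Agent.KSG.TwAutG2 (X X_mul X_zero)

/-- A unipotent element of the prime field on the seven coordinates. -/
def mU (t u v : ZMod 3) : Matrix (Fin 7) (Fin 7) (ZMod 3) :=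
  mR 7 t * (mR 6 t * (mR 8 (t ^ 2 + u) * (mR 9 (t ^ 3 + v) * (mR 10 u * mR 11 v))))

/-- The two involutions. -/
def mW (b : Bool) : Matrix (Fin 7) (Fin 7) (ZMod 3) :=
  if b then mJ (ZMod 3) * mA (ZMod 3) else mA (ZMod 3)

theorem table_sq : ∀ b, mW b * mW b = 1 := by decide +kernel

theorem table_four : ∀ b, (mW b * mU 0 2 0 * (mW b * mU 0 1 0)) * (mW b * mU 0 2 0 * (mW b * mU 0 1 0)) = 1 ∧
    mW b * mU 0 2 0 * (mW b * mU 0 1 0) ≠ 1 := by decide +kernel

theorem table_pos :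
    mU 2 2 2 * mU 1 0 2 = 1 ∧
    mW false * mU 2 2 2 * (mW false * mU 1 0 2) * (mJ (ZMod 3) * mU 1 0 0 * mA (ZMod 3)) =
      mJ (ZMod 3) * mU 1 0 0 * mA (ZMod 3) * mU 0 0 2 := by decide +kernel

theorem table_neg :
    mU 2 1 0 * mU 1 1 0 = 1 ∧
    mW true * mU 2 1 0 * (mW true * mU 1 1 0) * (mU 1 0 0 * mJ (ZMod 3) * mU 0 0 1 * mA (ZMod 3)) =
      mU 1 0 0 * mJ (ZMod 3) * mU 0 0 1 * mA (ZMod 3) * mU 0 0 2 := by decide +kernel

variable {K : Type*} [Field K] [Fintype K] {m : ℕ} (hK : Fintype.card K = 3 ^ (2 * m + 1)) [CharP K 3]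

/-- The embedding of the prime field. -/
noncomputable def emb : ZMod 3 →+* K := ZMod.castHom dvd_rfl K

/-- The unipotent element with the given coordinates. -/
noncomputable def uC (t u v : K) : ↥(RG K m) := X hK t u v

theorem zC_eq (v : K) : zC hK v = uC hK 0 0 v := rfl

theorem emb_pow (t : ZMod 3) (e : ℕ) : (emb t : K) ^ 3 ^ e = emb t := by
  rw [← map_pow, ZMod.pow_card_pow]

theorem rho_uC (t u v : ZMod 3) : rho (uC hK (emb t) (emb u) (emb v)) = (mU t u v).map (emb (K := K)) := by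
  show sv K (uEl K m (emb t) (emb u) (emb v)) = _
  have e : uEl K m (emb t) (emb u) (emb v) = ReeG2.X K 7 (emb t) * (ReeG2.X K 6 (emb t) *
      (ReeG2.X K 8 (emb (t ^ 2 + u)) * (ReeG2.X K 9 (emb (t ^ 3 + v)) *
        (ReeG2.X K 10 (emb u) * ReeG2.X K 11 (emb v))))) := by
    show reeEl _ _ _ _ _ = _
    have h1 : (emb t : K) ^ (3 ^ m + 1) = emb (t ^ 2) := by
      rw [pow_succ, emb_pow, ← map_mul, pow_two]
    have h2 : (emb t : K) ^ (2 * 3 ^ m + 1) = emb (t ^ 3) := by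
      rw [pow_succ, mul_comm 2, pow_mul, emb_pow, ← map_pow, ← map_mul, ← pow_succ]
    simp only [reeEl, uSix, qPart, emb_pow, h1, h2, ← map_add]
    rfl
  have h : ∀ r, r < chevG2.nroots → ∀ s : ZMod 3, ReeG2.X K r (emb s) ∈ chevG2.group K :=
    fun r hr s => X_mem r hr _
  rw [e, sv_mul (h 7 (by decide) _) (mul_mem (h 6 (by decide) _) (mul_mem (h 8 (by decide) _)
      (mul_mem (h 9 (by decide) _) (mul_mem (h 10 (by decide) _) (h 11 (by decide) _))))),
    sv_mul (h 6 (by decide) _) (mul_mem (h 8 (by decide) _)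
      (mul_mem (h 9 (by decide) _) (mul_mem (h 10 (by decide) _) (h 11 (by decide) _)))),
    sv_mul (h 8 (by decide) _) (mul_mem (h 9 (by decide) _) (mul_mem (h 10 (by decide) _) (h 11 (by decide) _))),
    sv_mul (h 9 (by decide) _) (mul_mem (h 10 (by decide) _) (h 11 (by decide) _)),
    sv_mul (h 10 (by decide) _) (h 11 (by decide) _),
    sv_X 7 (by decide), sv_X 6 (by decide), sv_X 8 (by decide), sv_X 9 (by decide), sv_X 10 (by decide),
    sv_X 11 (by decide)]
  simp only [mU, Matrix.map_mul, mR_map]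

theorem rho_wA' : rho (wA hK) = (mA (ZMod 3)).map (emb (K := K)) := by
  rw [rho_wA hK, mA_map]; rfl

theorem rho_jT' : rho (jT K hK) = (mJ (ZMod 3)).map (emb (K := K)) := by
  rw [rho_jT hK]
  ext i j
  fin_cases i <;> fin_cases j <;> simp [mJ, Matrix.diagonal]

theorem rho_wSign (b : Bool) : rho (wSign hK b) = (mW b).map (emb (K := K)) := by
  cases b
  · exact rho_wA' hK
  · show rho (jT K hK * wA hK) = _
    rw [rho_mul hK, rho_wA' hK, rho_jT' hK, ← Matrix.map_mul]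
    rfl

include hK in
theorem rho_one : rho (1 : ↥(RG K m)) = 1 := by
  have h := map_one (sevenMat K)
  rw [sevenMat_eq] at h
  exact h

include hK in
theorem rho_injective : Function.Injective (rho (K := K) (m := m)) := by
  intro a b h
  refine Subtype.ext ?_
  have h' : sevenMat K ⟨a.1, RG_le hK a.2⟩ = sevenMat K ⟨b.1, RG_le hK b.2⟩ := by
    rw [sevenMat_eq, sevenMat_eq]; exact h
  exact congrArg (fun z : ↥(chevG2.group K) => (z : GL chevG2.Idx K)) (sevenMat_injective K h')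

include hK in
/-- Equations over the prime field transfer to the group. -/
theorem eq_of_table {a b : ↥(RG K m)} {M N : Matrix (Fin 7) (Fin 7) (ZMod 3)}
    (ha : rho a = M.map (emb (K := K))) (hb : rho b = N.map (emb (K := K))) (h : M = N) : a = b :=
  rho_injective hK (by rw [ha, hb, h])

include hK in
theorem rho_prod {a b : ↥(RG K m)} {M N : Matrix (Fin 7) (Fin 7) (ZMod 3)}
    (ha : rho a = M.map (emb (K := K))) (hb : rho b = N.map (emb (K := K))) :
    rho (a * b) = (M * N).map (emb (K := K)) := by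
  rw [rho_mul hK, ha, hb, Matrix.map_mul]

include hK in
theorem rho_one' : rho (1 : ↥(RG K m)) = (1 : Matrix (Fin 7) (Fin 7) (ZMod 3)).map (emb (K := K)) := by
  rw [rho_one hK, Matrix.map_one _ (map_zero _) (map_one _)]

theorem wSign_sq (b : Bool) : wSign hK b * wSign hK b = 1 :=
  eq_of_table hK (rho_prod hK (rho_wSign hK b) (rho_wSign hK b)) (rho_one' hK) (table_sq b)

theorem uC_mul (t u v t' u' v' : K) :
    uC hK t u v * uC hK t' u' v' = uC hK (t + t') (u + u' - (t' ^ (3 ^ m)) ^ 3 * t)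
      (v + v' - (t' ^ (3 ^ m)) ^ 3 * t ^ 2 - t' * u + (t' ^ (3 ^ m)) ^ 3 * t * t') :=
  X_mul hK t u v t' u' v'

theorem uC_zero : uC hK (0 : K) 0 0 = 1 := X_zero hK

theorem zC_comm (c t u v : K) : zC hK c * uC hK t u v = uC hK t u v * zC hK c := by
  rw [zC_eq, uC_mul, uC_mul]
  congr 1 <;> simp [add_comm, zero_pow (pow_ne_zero m three_ne_zero)]

/-- The commutator of `W·z` with the witness is conjugate to `[W, τ]`. -/
theorem commutator_eq {G : Type*} [Group G] {W z τ τ' : G} (hW : W * W = 1) (hz : z * τ = τ * z)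
    (hτ : τ' * τ = 1) : (W * z)⁻¹ * (τ⁻¹ * (W * z) * τ) = z⁻¹ * (W * τ' * (W * τ)) * z := by
  rw [eq_inv_of_mul_eq_one_left hτ, _root_.mul_inv_rev, inv_eq_of_mul_eq_one_right hW]
  simp only [mul_assoc]
  rw [hz]

/-- Some involution is obtained. -/
theorem exists_inv_comm (b : Bool) (c : K) : ∃ τ : ↥(RG K m),
    orderOf ((wSign hK b * zC hK c)⁻¹ * (τ⁻¹ * (wSign hK b * zC hK c) * τ)) = 2 := by
  refine ⟨uC hK (emb 0) (emb 1) (emb 0), ?_⟩
  have hτ : uC hK (emb (K := K) 0) (emb 2) (emb 0) * uC hK (emb 0) (emb 1) (emb 0) = 1 := by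
    have h3 : (3 : K) = 0 := by exact_mod_cast CharP.cast_eq_zero K 3
    rw [uC_mul, ← uC_zero hK]
    congr 1 <;> simp [zero_pow (pow_ne_zero m three_ne_zero)]
    rw [← map_one (emb (K := K)), ← map_add, show (2 : ZMod 3) + 1 = 0 from rfl, map_zero]
  rw [commutator_eq (wSign_sq hK b) (zC_comm hK _ _ _ _) hτ]
  set s := wSign hK b * uC hK (emb (K := K) 0) (emb 2) (emb 0) * (wSign hK b * uC hK (emb 0) (emb 1) (emb 0))
  have hs : rho s = (mW b * mU 0 2 0 * (mW b * mU 0 1 0)).map (emb (K := K)) :=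
    rho_prod hK (rho_prod hK (rho_wSign hK b) (rho_uC hK 0 2 0))
      (rho_prod hK (rho_wSign hK b) (rho_uC hK 0 1 0))
  have h2 : orderOf s = 2 := by
    refine orderOf_eq_prime ?_ fun e => (table_four b).2 ?_
    · rw [pow_two]
      exact eq_of_table hK (rho_prod hK hs hs) (rho_one' hK) (table_four b).1
    · have := hs.symm.trans ((congrArg rho e).trans (rho_one' hK))
      exact Matrix.map_injective (emb (K := K)).injective this
  rw [show (zC hK c)⁻¹ * s * zC hK c = (zC hK c)⁻¹ * s * ((zC hK c)⁻¹)⁻¹ by rw [inv_inv],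
    ReeLocal.orderOf_conj, h2]

/-- A central unipotent element is obtained. -/
theorem exists_cent_comm (b : Bool) (c : K) : ∃ (τ k : ↥(RG K m)),
    (wSign hK b * zC hK c)⁻¹ * (τ⁻¹ * (wSign hK b * zC hK c) * τ) = k * zC hK (emb (2 : ZMod 3)) * k⁻¹ := by
  have key : ∀ (τ τ' h : ↥(RG K m)) (c : K), τ' * τ = 1 → zC hK c * τ = τ * zC hK c →
      wSign hK b * τ' * (wSign hK b * τ) * h = h * zC hK (emb (2 : ZMod 3)) →
      (wSign hK b * zC hK c)⁻¹ * (τ⁻¹ * (wSign hK b * zC hK c) * τ) =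
        ((zC hK c)⁻¹ * h) * zC hK (emb (2 : ZMod 3)) * ((zC hK c)⁻¹ * h)⁻¹ := by
    intro τ τ' h c h1 h2 h3
    rw [commutator_eq (wSign_sq hK b) h2 h1, eq_mul_inv_of_mul_eq h3]
    group
  have hz : rho (zC hK (emb (K := K) 2)) = (mU 0 0 2).map (emb (K := K)) := by
    rw [← rho_uC hK 0 0 2, zC_eq, map_zero]
  cases b
  · refine ⟨_, _, key (uC hK (emb 1) (emb 0) (emb 2)) (uC hK (emb 2) (emb 2) (emb 2))
      (jT K hK * uC hK (emb 1) (emb 0) (emb 0) * wA hK) c ?_ (zC_comm hK _ _ _ _) ?_⟩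
    · exact eq_of_table hK (rho_prod hK (rho_uC hK 2 2 2) (rho_uC hK 1 0 2)) (rho_one' hK) table_pos.1
    · exact eq_of_table hK
        (rho_prod hK (rho_prod hK (rho_prod hK (rho_wSign hK _) (rho_uC hK 2 2 2))
          (rho_prod hK (rho_wSign hK _) (rho_uC hK 1 0 2)))
          (rho_prod hK (rho_prod hK (rho_jT' hK) (rho_uC hK 1 0 0)) (rho_wA' hK)))
        (rho_prod hK (rho_prod hK (rho_prod hK (rho_jT' hK) (rho_uC hK 1 0 0)) (rho_wA' hK)) hz) table_pos.2
  · refine ⟨_, _, key (uC hK (emb 1) (emb 1) (emb 0)) (uC hK (emb 2) (emb 1) (emb 0))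
      (uC hK (emb 1) (emb 0) (emb 0) * jT K hK * uC hK (emb 0) (emb 0) (emb 1) * wA hK) c ?_ (zC_comm hK _ _ _ _) ?_⟩
    · exact eq_of_table hK (rho_prod hK (rho_uC hK 2 1 0) (rho_uC hK 1 1 0)) (rho_one' hK) table_neg.1
    · exact eq_of_table hK
        (rho_prod hK (rho_prod hK (rho_prod hK (rho_wSign hK _) (rho_uC hK 2 1 0))
          (rho_prod hK (rho_wSign hK _) (rho_uC hK 1 1 0)))
          (rho_prod hK (rho_prod hK (rho_prod hK (rho_uC hK 1 0 0) (rho_jT' hK)) (rho_uC hK 0 0 1)) (rho_wA' hK)))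
        (rho_prod hK (rho_prod hK (rho_prod hK (rho_prod hK (rho_uC hK 1 0 0) (rho_jT' hK)) (rho_uC hK 0 0 1))
          (rho_wA' hK)) hz) table_neg.2

end Cfsg.Agent.ReeCover
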